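import Mathlib.Algebra.BigOperators.Fin
import Mathlib.Data.Nat.Find
import Mathlib.Algebra.BigOperators.Intervals
import Mathlib.Algebra.Order.BigOperators.Group.Finset
import Mathlib.Tactic.Ring

/-! Order sequences from dimension functions. -/

namespace Groth.Agent.Lib.FunFld.LinSer.Orders

/-- The axioms of `n ↦ dim V(-nP)` for a `g^r_d`. -/
structure IsDimFun (F : ℕ → ℕ) (r d : ℕ) : Prop where
  zero : F 0 = r + 1
  anti : ∀ n, F (n + 1) ≤ F n
  step : ∀ n, F n ≤ F (n + 1) + 1
  top : F (d + 1) = 0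

variable {F : ℕ → ℕ} {r d : ℕ}

theorem IsDimFun.antitone (h : IsDimFun F r d) : Antitone F := antitone_nat_of_succ_le h.anti

theorem IsDimFun.le_zero (h : IsDimFun F r d) (n : ℕ) : F n ≤ r + 1 :=
  h.zero ▸ h.antitone (Nat.zero_le n)

theorem IsDimFun.lower (h : IsDimFun F r d) : ∀ n, r + 1 ≤ F n + n
  | 0 => by rw [h.zero]
  | n + 1 => by have := h.lower n; have := h.step n; omega

theorem IsDimFun.eq_zero (h : IsDimFun F r d) {n : ℕ} (hn : d + 1 ≤ n) : F n = 0 :=
  Nat.le_zero.mp (h.top ▸ h.antitone hn)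

theorem exists_le (h : IsDimFun F r d) (i : Fin (r + 1)) :
    ∃ n, F (n + 1) ≤ r - (i : ℕ) :=
  ⟨d, by rw [h.top]; exact Nat.zero_le _⟩

/-- The `i`-th order: the largest `n` with `r + 1 - i ≤ F n`. -/
def seq (h : IsDimFun F r d) (i : Fin (r + 1)) : ℕ := Nat.find (exists_le h i)

theorem F_seq_succ (h : IsDimFun F r d) (i : Fin (r + 1)) : F (seq h i + 1) = r - (i : ℕ) := by
  have h1 : F (seq h i + 1) ≤ r - (i : ℕ) := Nat.find_spec (exists_le h i)
  have := i.2
  rcases Nat.eq_zero_or_pos (seq h i) with h0 | h0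
  · rw [h0] at h1 ⊢
    have := h.step 0
    rw [h.zero] at this
    omega
  · have h2 := Nat.find_min (exists_le h i) (show seq h i - 1 < seq h i by omega)
    rw [Nat.sub_add_cancel h0, not_le] at h2
    have := h.step (seq h i)
    change r - (i : ℕ) < F (seq h i) at h2
    omega

theorem F_seq (h : IsDimFun F r d) (i : Fin (r + 1)) : F (seq h i) = r + 1 - (i : ℕ) := by
  have h1 := F_seq_succ h i
  have := h.step (seq h i)
  have := i.2
  rcases Nat.eq_zero_or_pos (seq h i) with h0 | h0
  · simp only [h0, h.zero] at *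
    omega
  · have h2 := Nat.find_min (exists_le h i) (show seq h i - 1 < seq h i by omega)
    rw [Nat.sub_add_cancel h0, not_le] at h2
    change r - (i : ℕ) < F (seq h i) at h2
    omega

theorem le_seq_iff (h : IsDimFun F r d) (i : Fin (r + 1)) (n : ℕ) :
    n ≤ seq h i ↔ r + 1 - (i : ℕ) ≤ F n := by
  refine ⟨fun hn => F_seq h i ▸ h.antitone hn, fun hn => ?_⟩
  by_contra hlt
  have := h.antitone (show seq h i + 1 ≤ n by omega)
  rw [F_seq_succ h i] at this
  have := i.2
  omega

theorem seq_le (h : IsDimFun F r d) (i : Fin (r + 1)) : seq h i ≤ d := by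
  by_contra hlt
  have := (le_seq_iff h i (d + 1)).mp (by omega)
  rw [h.top] at this
  have := i.2
  omega

theorem strictMono_seq (h : IsDimFun F r d) : StrictMono (seq h) := by
  intro i j hij
  have hij' : (i : ℕ) < (j : ℕ) := hij
  have := j.2
  have := F_seq_succ h i
  refine Nat.lt_of_succ_le ((le_seq_iff h j _).mpr ?_)
  change r + 1 - (j : ℕ) ≤ F (seq h i + 1)
  omega

theorem sum_F_eq_sum_seq (h : IsDimFun F r d) :
    ∑ n ∈ Finset.range d, F (n + 1) = ∑ i, seq h i := by
  classical
  have hF : ∀ n, F n = (Finset.univ.filter fun i : Fin (r + 1) => n ≤ seq h i).card := by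
    intro n
    have hle := h.le_zero n
    rw [show (Finset.univ.filter fun i : Fin (r + 1) => n ≤ seq h i) =
      Finset.univ.filter fun i : Fin (r + 1) => r + 1 - F n ≤ (i : ℕ) from
      Finset.filter_congr fun i _ => by rw [le_seq_iff h i n]; omega]
    have h1 : (Finset.univ.filter fun i : Fin (r + 1) => r + 1 - F n ≤ (i : ℕ)).card =
        (Finset.Ico (r + 1 - F n) (r + 1)).card := by
      refine Finset.card_bij (fun i _ => (i : ℕ)) ?_ ?_ ?_
      · intro i hi
        simp only [Finset.mem_filter] at hi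
        rw [Finset.mem_Ico]
        exact ⟨hi.2, i.2⟩
      · exact fun a _ b _ hab => Fin.ext hab
      · intro b hb
        simp only [Finset.mem_Ico] at hb
        exact ⟨⟨b, hb.2⟩, by simp; omega, rfl⟩
    rw [h1, Nat.card_Ico]
    omega
  simp only [hF, Finset.card_filter]
  rw [Finset.sum_comm]
  refine Finset.sum_congr rfl fun i _ => ?_
  rw [← Finset.card_filter]
  have := seq_le h i
  rw [show (Finset.range d).filter (fun n => n + 1 ≤ seq h i) = Finset.range (seq h i) by
    ext n; simp; omega]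
  exact Finset.card_range _

theorem tri_le_sum (h : IsDimFun F r d) :
    r * (r + 1) / 2 ≤ ∑ n ∈ Finset.range d, F (n + 1) := by
  rw [sum_F_eq_sum_seq h]
  calc r * (r + 1) / 2 = ∑ i : Fin (r + 1), (i : ℕ) := by
        rw [Fin.sum_univ_eq_sum_range (fun i => i) (r + 1), Finset.sum_range_id, mul_comm]
        rfl
    _ ≤ ∑ i, seq h i := Finset.sum_le_sum fun i _ =>
        (le_seq_iff h i _).mpr (by have := h.lower (i : ℕ); omega)

theorem ge_two_of_cusp (h : IsDimFun F r d) (hc : r ≤ F 2) (hr : 1 ≤ r) :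
    r * (r + 1) / 2 + r ≤ ∑ n ∈ Finset.range d, F (n + 1) := by
  rw [sum_F_eq_sum_seq h]
  calc r * (r + 1) / 2 + r = ∑ i : Fin (r + 1), ((i : ℕ) + if (i : ℕ) = 0 then 0 else 1) := by
        rw [Finset.sum_add_distrib, Fin.sum_univ_eq_sum_range (fun i => i) (r + 1),
          Finset.sum_range_id, Fin.sum_univ_succ (f := fun i : Fin (r + 1) => if (i : ℕ) = 0 then 0 else 1)]
        simp [mul_comm r]
    _ ≤ ∑ i, seq h i := Finset.sum_le_sum fun i _ => by
        split_ifs with h0
        · omega
        · have h1 : 2 ≤ seq h ⟨1, by omega⟩ := (le_seq_iff h _ 2).mpr (by simpa using hc)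
          have hmono : ∀ j : ℕ, ∀ hj : j + 1 < r + 1, j + 2 ≤ seq h ⟨j + 1, hj⟩ := by
            intro j
            induction j with
            | zero => intro _; exact h1
            | succ j ih =>
              intro hj
              have := strictMono_seq h (show (⟨j + 1, by omega⟩ : Fin (r + 1)) < ⟨j + 1 + 1, hj⟩ from Nat.lt_succ_self _)
              have := ih (by omega)
              omega
          have := hmono ((i : ℕ) - 1) (by omega)
          have hi : (⟨(i : ℕ) - 1 + 1, by omega⟩ : Fin (r + 1)) = i := Fin.ext (by simp; omega)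
          rw [hi] at this
          omega

end Groth.Agent.Lib.FunFld.LinSer.Orders
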