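import Groth.Agent.Lib.FunFld.Rational
import Groth.Agent.Lib.FunFld.LinSer.Orders

/-! Vanishing orders of linear series on a function field over an algebraically closed field. -/

namespace Groth.Agent.Lib.FunFld.LinSer.Basic

open WithZero
open Groth.Agent.Lib.FunFld.Place Groth.Agent.Lib.FunFld.Degree Groth.Agent.Lib.FunFld.Existence
open Groth.Agent.Lib.FunFld.LinSer.Orders

universe u v
variable {k : Type u} {K : Type v} [Field k] [Field K] [Algebra k K]

local notation "Pl" => _root_.FunFld.Place k K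
local notation "Dv" => _root_.FunFld.Divisor k K

/-- `dim V(-nP)`. -/
noncomputable def van (V : Submodule k K) (D : Dv) (P : Pl) (n : ℤ) : ℕ :=
  Module.finrank k ↥(V ⊓ _root_.FunFld.L (D - Finsupp.single P n))

/-- `∑_{n=1}^{d} dim V(-nP)`, the sum of the vanishing orders. -/
noncomputable def S (V : Submodule k K) (D : Dv) (P : Pl) (d : ℕ) : ℕ :=
  ∑ n ∈ Finset.range d, van V D P ((n : ℤ) + 1)

theorem finrank_inf_step (hK : FunFld.IsFunctionField k K) [IsAlgClosed k] (V : Submodule k K)
    (E : Dv) (P : Pl) :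
    Module.finrank k ↥(V ⊓ _root_.FunFld.L (E + Finsupp.single P 1)) ≤
      Module.finrank k ↥(V ⊓ _root_.FunFld.L E) + 1 := by
  classical
  have := Existence.finiteDimensional_residueField hK P
  have := finiteDimensional_L hK (E + Finsupp.single P 1)
  have := finiteDimensional_L hK E
  let E' := E + Finsupp.single P 1
  have hsub : V ⊓ _root_.FunFld.L E' ≤ ball P (E' P) := fun _ h => h.2 P
  let f : ↥(V ⊓ _root_.FunFld.L E') →ₗ[k] IsLocalRing.ResidueField P.O :=
    ballRes P (E' P) ∘ₗ Submodule.inclusion hsub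
  have : FiniteDimensional k ↥(V ⊓ _root_.FunFld.L E') :=
    Submodule.finiteDimensional_of_le (show V ⊓ _root_.FunFld.L E' ≤ _root_.FunFld.L E' from inf_le_right)
  have : FiniteDimensional k ↥(V ⊓ _root_.FunFld.L E) :=
    Submodule.finiteDimensional_of_le (show V ⊓ _root_.FunFld.L E ≤ _root_.FunFld.L E from inf_le_right)
  have hker : f.ker.map (V ⊓ _root_.FunFld.L E').subtype ≤ V ⊓ _root_.FunFld.L E := by
    rintro _ ⟨z, hz, rfl⟩
    refine ⟨z.2.1, fun Q => ?_⟩
    have hz' := (ballRes_eq_zero_iff P (E' P) _).mp hz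
    rcases eq_or_ne Q P with rfl | hQ
    · have : E' Q - 1 = E Q := by simp [E']
      rw [← this]; exact hz'
    · have : E' Q = E Q := by simp [E', Finsupp.single_eq_of_ne hQ]
      rw [← this]; exact z.2.2 Q
  have h1 := Submodule.finrank_mono hker
  rw [Submodule.finrank_map_subtype_eq] at h1
  have h2 : Module.finrank k f.range ≤ P.deg := Submodule.finrank_le _
  rw [Rational.deg_eq_one hK P] at h2
  have h3 := f.finrank_range_add_finrank_ker
  change Module.finrank k ↥(V ⊓ _root_.FunFld.L E') ≤ _
  omega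

variable {V : Submodule k K} {D : _root_.FunFld.Divisor k K} {d r : ℕ}

theorem isDimFun (hK : FunFld.IsFunctionField k K) [IsAlgClosed k] (hD : D.deg = (d : ℤ))
    (hV : V ≤ _root_.FunFld.L D) (hr : Module.finrank k ↥V = r + 1) (P : Pl) :
    IsDimFun (fun n : ℕ => van V D P n) r d where
  zero := by
    change Module.finrank k ↥(V ⊓ _root_.FunFld.L (D - Finsupp.single P ((0 : ℕ) : ℤ))) = r + 1
    rw [Nat.cast_zero, Finsupp.single_zero, sub_zero, inf_eq_left.mpr hV, hr]
  anti n := by
    have := finiteDimensional_L hK (D - Finsupp.single P (n : ℤ))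
    have : FiniteDimensional k ↥(V ⊓ _root_.FunFld.L (D - Finsupp.single P (n : ℤ))) :=
      Submodule.finiteDimensional_of_le inf_le_right
    exact Submodule.finrank_mono (inf_le_inf_left _ (L_mono
      (sub_le_sub_left (Finsupp.single_le_single.mpr (by push_cast; omega)) _)))
  step n := by
    have := finrank_inf_step hK V (D - Finsupp.single P ((n : ℤ) + 1)) P
    rw [show D - Finsupp.single P ((n : ℤ) + 1) + Finsupp.single P 1 = D - Finsupp.single P (n : ℤ) by
      rw [Finsupp.single_add]; abel] at this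
    simpa [van] using this
  top := by
    rw [van, L_eq_bot_of_deg_neg hK, inf_bot_eq, finrank_bot]
    rw [deg_sub, deg_single, hD, Rational.deg_eq_one hK P]
    push_cast; omega

theorem van_eq_zero (hK : FunFld.IsFunctionField k K) [IsAlgClosed k] (hD : D.deg = (d : ℤ))
    (P : Pl) {n : ℤ} (hn : (d : ℤ) < n) : van V D P n = 0 := by
  rw [van, L_eq_bot_of_deg_neg hK, inf_bot_eq, finrank_bot]
  rw [deg_sub, deg_single, hD, Rational.deg_eq_one hK P]
  omega

theorem van_add_van_le (hK : FunFld.IsFunctionField k K) [IsAlgClosed k] (hD : D.deg = (d : ℤ))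
    (hr : Module.finrank k ↥V = r + 1) {P Q : Pl} (hPQ : P ≠ Q) {a b : ℤ}
    (hab : (d : ℤ) < a + b) : van V D P a + van V D Q b ≤ r + 1 := by
  classical
  have hVf : FiniteDimensional k ↥V := FiniteDimensional.of_finrank_pos (by omega)
  set A := V ⊓ _root_.FunFld.L (D - Finsupp.single P a)
  set B := V ⊓ _root_.FunFld.L (D - Finsupp.single Q b)
  have : FiniteDimensional k ↥A := Submodule.finiteDimensional_of_le inf_le_left
  have : FiniteDimensional k ↥B := Submodule.finiteDimensional_of_le inf_le_left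
  have hbot : A ⊓ B = ⊥ := by
    refine (Submodule.eq_bot_iff _).mpr fun x hx => ?_
    have hmem : x ∈ _root_.FunFld.L (D - Finsupp.single P a - Finsupp.single Q b) := by
      intro R
      rcases eq_or_ne R P with rfl | hR
      · have := hx.1.2 R
        simpa [Finsupp.single_eq_of_ne hPQ] using this
      · have := hx.2.2 R
        simpa [Finsupp.single_eq_of_ne hR] using this
    rw [L_eq_bot_of_deg_neg hK (by
      rw [deg_sub, deg_sub, deg_single, deg_single, hD, Rational.deg_eq_one hK,
        Rational.deg_eq_one hK]; omega)] at hmem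
    exact hmem
  have h := Submodule.finrank_sup_add_finrank_inf_eq A B
  rw [hbot, finrank_bot, add_zero] at h
  have h2 : Module.finrank k ↥(A ⊔ B) ≤ r + 1 :=
    hr ▸ Submodule.finrank_mono (sup_le inf_le_left inf_le_left)
  change Module.finrank k ↥A + Module.finrank k ↥B ≤ r + 1
  omega

theorem S_add_S_le (hK : FunFld.IsFunctionField k K) [IsAlgClosed k] (hD : D.deg = (d : ℤ))
    (hr : Module.finrank k ↥V = r + 1) {P Q : Pl} (hPQ : P ≠ Q) :
    S V D P d + S V D Q d ≤ (r + 1) * d := by
  rw [S, S, ← Finset.sum_range_reflect (fun n : ℕ => van V D Q ((n : ℤ) + 1)), ← Finset.sum_add_distrib,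
    mul_comm]
  refine (Finset.sum_le_card_nsmul _ _ (r + 1) fun n hn => ?_).trans_eq (by simp)
  rw [Finset.mem_range] at hn
  exact van_add_van_le hK hD hr hPQ (by omega)

theorem S_add_S_of_compat {k : Type*} [Field k] {KY KZ : Type*} [Field KY] [Algebra k KY] [Field KZ]
    [Algebra k KZ] {VY : Submodule k KY} {DY : _root_.FunFld.Divisor k KY}
    {VZ : Submodule k KZ} {DZ : _root_.FunFld.Divisor k KZ}
    {P : _root_.FunFld.Place k KY} {Q : _root_.FunFld.Place k KZ} {d r : ℕ}
    (hcomp : ∀ n : ℕ, n ≤ d + 1 → van VY DY P (n : ℤ) + van VZ DZ Q ((d : ℤ) + 1 - n) = r + 1) :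
    S VY DY P d + S VZ DZ Q d = (r + 1) * d := by
  rw [S, S, ← Finset.sum_range_reflect (fun n : ℕ => van VZ DZ Q ((n : ℤ) + 1)), ← Finset.sum_add_distrib,
    mul_comm, ← smul_eq_mul, ← Finset.card_range d]
  rw [Finset.card_range]
  conv_rhs => rw [← Finset.card_range d, ← Finset.sum_const]
  refine Finset.sum_congr rfl fun n hn => ?_
  rw [Finset.mem_range] at hn
  have := hcomp (n + 1) (by omega)
  convert this using 3 <;> push_cast <;> omega

theorem le_S (hK : FunFld.IsFunctionField k K) [IsAlgClosed k] (hD : D.deg = (d : ℤ))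
    (hV : V ≤ _root_.FunFld.L D) (hr : Module.finrank k ↥V = r + 1) (P : Pl) :
    r * (r + 1) / 2 ≤ S V D P d := by
  have := tri_le_sum (isDimFun hK hD hV hr P)
  simpa [S] using this

theorem le_S_of_cusp (hK : FunFld.IsFunctionField k K) [IsAlgClosed k] (hD : D.deg = (d : ℤ))
    (hV : V ≤ _root_.FunFld.L D) (hr : Module.finrank k ↥V = r + 1) (P : Pl)
    (hc : r ≤ van V D P 2) : r * (r + 1) / 2 + r ≤ S V D P d := by
  rcases Nat.eq_zero_or_pos r with rfl | hr0
  · simp
  have := ge_two_of_cusp (isDimFun hK hD hV hr P) (by simpa using hc) hr0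
  simpa [S] using this

theorem exists_place_notMem (hK : FunFld.IsFunctionField k K) [IsAlgClosed k] (s : Finset Pl) :
    ∃ P : Pl, P ∉ s := by
  classical
  obtain ⟨x, hx⟩ := Riemann.exists_transcendental hK
  have hc : ∀ c : k, ∃ P : Pl, 0 < P.ord (x - algebraMap k K c) := fun c => by
    refine exists_zero hK fun halg => hx ?_
    have := halg.add (isAlgebraic_algebraMap c)
    simpa using this
  choose P hP using hc
  have hinj : Function.Injective P := by
    intro a b hab
    by_contra hne
    have h1 := ((ord_pos_iff _).mp (hP a)).2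
    have h2 := ((ord_pos_iff _).mp (hP b)).2
    rw [← hab] at h2
    have h3 := (P a).1.map_sub (x - algebraMap k K b) (x - algebraMap k K a)
    rw [show x - algebraMap k K b - (x - algebraMap k K a) = algebraMap k K (a - b) by
      rw [map_sub]; ring, val_algebraMap _ (sub_ne_zero.mpr hne)] at h3
    exact absurd h3 (not_le.mpr (max_lt h2 h1))
  obtain ⟨_, ⟨c, rfl⟩, hc'⟩ := (Set.infinite_range_of_injective hinj).exists_notMem_finset s
  exact ⟨P c, hc'⟩

end Groth.Agent.Lib.FunFld.LinSer.Basic
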