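import Groth.Agent.Lib.FunFld.LinSer.Plucker

/-! Consequences for chains of rational components carrying limit linear series. -/

namespace Groth.Agent.Lib.FunFld.LinSer.Chain

open Groth.Agent.Lib.FunFld.Place Groth.Agent.Lib.FunFld.Degree
open Groth.Agent.Lib.FunFld.LinSer

universe u v
variable {k : Type u} [Field k] [IsAlgClosed k]

section One

variable {K : Type v} [Field K] [Algebra k K] {V : Submodule k K}
  {D : _root_.FunFld.Divisor k K} {d r : ℕ}

theorem two_tri (r : ℕ) : r * (r + 1) / 2 + r * (r + 1) / 2 = r * (r + 1) := by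
  rw [← two_mul, Nat.two_mul_div_two_of_even (Nat.even_mul_succ_self r)]

theorem three_point [CharZero k] (hK : FunFld.IsFunctionField k K) (hg : _root_.FunFld.genus k K = 0)
    (hD : D.deg = (d : ℤ)) (hV : V ≤ _root_.FunFld.L D) (hr : Module.finrank k ↥V = r + 1)
    {P Q R : _root_.FunFld.Place k K} (h1 : P ≠ Q) (h2 : P ≠ R) (h3 : Q ≠ R) :
    Basic.S V D P d + Basic.S V D Q d + Basic.S V D R d ≤ (r + 1) * d + r * (r + 1) / 2 := by
  classical
  have h := Plucker.plucker hK hg hD hV hr {P, Q, R}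
  rw [Finset.sum_insert (by simp [h1, h2]), Finset.sum_insert (by simp [h3]), Finset.sum_singleton] at h
  omega

theorem four_point [CharZero k] (hK : FunFld.IsFunctionField k K) (hg : _root_.FunFld.genus k K = 0)
    (hD : D.deg = (d : ℤ)) (hV : V ≤ _root_.FunFld.L D) (hr : Module.finrank k ↥V = r + 1)
    {P Q R T : _root_.FunFld.Place k K} (h1 : P ≠ Q) (h2 : P ≠ R) (h3 : P ≠ T) (h4 : Q ≠ R)
    (h5 : Q ≠ T) (h6 : R ≠ T) :
    Basic.S V D P d + Basic.S V D Q d + Basic.S V D R d + Basic.S V D T d ≤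
      (r + 1) * d + (r * (r + 1) / 2 + r * (r + 1) / 2) := by
  classical
  have h := Plucker.plucker hK hg hD hV hr {P, Q, R, T}
  rw [Finset.sum_insert (by simp [h1, h2, h3]), Finset.sum_insert (by simp [h4, h5]),
    Finset.sum_insert (by simp [h6]), Finset.sum_singleton] at h
  omega

/-- A positive-genus component has no `g^1_1`. -/
theorem finrank_le_one (hK : FunFld.IsFunctionField k K) (hg : 0 < _root_.FunFld.genus k K)
    {E : _root_.FunFld.Divisor k K} (hE : E.deg = 1) : _root_.FunFld.ell E ≤ 1 := by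
  by_contra hlt
  obtain ⟨z, hz0, hz⟩ := Riemann.exists_ne_zero_of_ell_pos (D := E) (by omega)
  have h := ((mem_L_iff_div hK).mp hz).resolve_left hz0
  rw [add_comm] at h
  obtain ⟨P, hP, hEP⟩ := Rational.eq_single_of_deg_eq_one hK h (by rw [deg_add, deg_div hK, hE]; rfl)
  have h2 := Riemann.ell_add_div hK E hz0
  rw [hEP, Rational.ell_single_one_eq_one hK hg hP] at h2
  omega

theorem sum_ge_of_van {W : Submodule k K} (hK : FunFld.IsFunctionField k K)
    (hD : D.deg = (d : ℤ)) (hW : W ≤ _root_.FunFld.L D) (hr : Module.finrank k ↥W = r + 1)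
    (P : _root_.FunFld.Place k K) (m : Fin (r + 1) → ℕ) (hm : ∀ i, m i ≤ d)
    (h : ∀ i : Fin (r + 1), r + 1 - (i : ℕ) ≤ Basic.van W D P (m i)) :
    ∑ i, m i ≤ Basic.S W D P d := by
  have hF := Basic.isDimFun hK hD hW hr P
  calc ∑ i, m i ≤ ∑ i, Orders.seq hF i :=
        Finset.sum_le_sum fun i _ => (Orders.le_seq_iff hF i _).mpr (h i)
    _ = Basic.S W D P d := by rw [← Orders.sum_F_eq_sum_seq hF]; simp [Basic.S]

theorem one_le_van_of_mem (hK : FunFld.IsFunctionField k K) {P : _root_.FunFld.Place k K} {n : ℤ}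
    {f : K} (hf : f ∈ V) (hf0 : f ≠ 0) (hfn : f ∈ _root_.FunFld.L (D - Finsupp.single P n)) :
    1 ≤ Basic.van V D P n := by
  have := finiteDimensional_L hK (D - Finsupp.single P n)
  have : FiniteDimensional k ↥(V ⊓ _root_.FunFld.L (D - Finsupp.single P n)) :=
    Submodule.finiteDimensional_of_le inf_le_right
  have : Nontrivial ↥(V ⊓ _root_.FunFld.L (D - Finsupp.single P n)) :=
    ⟨⟨⟨f, hf, hfn⟩, 0, fun h => hf0 (congrArg Subtype.val h)⟩⟩
  exact Module.finrank_pos

/-- The cusp at `B` forces the orders at another point `A` to satisfy `m_{r-1}(A) ≤ d - 2`. -/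
theorem van_le_one_of_cusp (hK : FunFld.IsFunctionField k K) (hD : D.deg = (d : ℤ))
    (hV : V ≤ _root_.FunFld.L D) (hr : Module.finrank k ↥V = r + 1)
    {A B : _root_.FunFld.Place k K} (hAB : A ≠ B) (hc : r ≤ Basic.van V D B 2) :
    Basic.van V D A ((d : ℤ) - 1) ≤ 1 := by
  classical
  have : FiniteDimensional k ↥V := FiniteDimensional.of_finrank_pos (by omega)
  by_contra hgt
  rcases Nat.lt_or_ge d 2 with hd | hd
  · have h0 := Basic.van_eq_zero (V := V) hK hD B (n := 2) (by omega)
    have h1 : Basic.van V D A ((d : ℤ) - 1) ≤ r + 1 := hr ▸ Submodule.finrank_mono inf_le_left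
    omega
  set W := V ⊓ _root_.FunFld.L (D - Finsupp.single A ((d : ℤ) - 1))
  have hWV : W ≤ V := inf_le_left
  have : FiniteDimensional k ↥W := Submodule.finiteDimensional_of_le hWV
  have hF := Basic.isDimFun hK hD hV hr A
  have h2 : Basic.van V D A ((d : ℤ) - 1) ≤ 2 := by
    have s1 := hF.step (d - 1)
    have s2 := hF.step d
    have t := hF.top
    simp only [show d - 1 + 1 = d by omega] at s1
    rw [Nat.cast_sub (by omega : 1 ≤ d)] at s1
    simp only [Nat.cast_one, Nat.cast_add] at s1 s2 t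
    omega
  have hWr : Module.finrank k ↥W = 1 + 1 := by
    change Basic.van V D A ((d : ℤ) - 1) = 2
    omega
  have hA : ∑ i, ![d - 1, d] i ≤ Basic.S W D A d := by
    refine sum_ge_of_van hK hD (hWV.trans hV) hWr A _ (fun i => by fin_cases i <;> simp) fun i => ?_
    fin_cases i
    · simp only [Nat.sub_zero, Matrix.cons_val_zero, Fin.isValue, Fin.zero_eta, Fin.val_zero]
      rw [Nat.cast_sub (by omega : 1 ≤ d), Basic.van, inf_eq_left.mpr (show W ≤
        _root_.FunFld.L (D - Finsupp.single A ((d : ℤ) - ((1 : ℕ) : ℤ))) from inf_le_right)]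
      omega
    · change 1 + 1 - 1 ≤ Basic.van W D A (d : ℤ)
      have hstep := Basic.finrank_inf_step hK W (D - Finsupp.single A (d : ℤ)) A
      rw [show D - Finsupp.single A (d : ℤ) + Finsupp.single A 1 =
        D - Finsupp.single A ((d : ℤ) - 1) by rw [Finsupp.single_sub]; abel,
        inf_eq_left.mpr (show W ≤ _root_.FunFld.L (D - Finsupp.single A ((d : ℤ) - 1)) from inf_le_right),
        hWr] at hstep
      unfold Basic.van
      omega
  have hB : ∑ i, ![0, 2] i ≤ Basic.S W D B d := by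
    refine sum_ge_of_van hK hD (hWV.trans hV) hWr B _ (fun i => by fin_cases i <;> simp; omega) fun i => ?_
    fin_cases i
    · change 1 + 1 - 0 ≤ Basic.van W D B ((0 : ℕ) : ℤ)
      rw [Basic.van, Nat.cast_zero, Finsupp.single_zero, sub_zero, inf_eq_left.mpr (hWV.trans hV), hWr]
    · change 1 + 1 - 1 ≤ Basic.van W D B ((2 : ℕ) : ℤ)
      set W₂ := V ⊓ _root_.FunFld.L (D - Finsupp.single B 2)
      have : FiniteDimensional k ↥W₂ := Submodule.finiteDimensional_of_le inf_le_left
      have hs := Submodule.finrank_sup_add_finrank_inf_eq W W₂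
      have hle : Module.finrank k ↥(W ⊔ W₂) ≤ r + 1 :=
        hr ▸ Submodule.finrank_mono (sup_le hWV inf_le_left)
      have hW2 : r ≤ Module.finrank k ↥W₂ := hc
      have hsub : W ⊓ W₂ ≤ W ⊓ _root_.FunFld.L (D - Finsupp.single B ((2 : ℕ) : ℤ)) :=
        le_inf inf_le_left (inf_le_right.trans inf_le_right)
      have := Submodule.finrank_mono hsub
      unfold Basic.van
      omega
  have := Basic.S_add_S_le hK hD hWr hAB
  simp only [Fin.sum_univ_two, Matrix.cons_val_zero, Matrix.cons_val_one, Matrix.cons_val_fin_one] at hA hB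
  omega

/-- Members of `V` supported at two places `P, P'` away from a cusp are unique up to scalars. -/
theorem unique_supported [CharZero k] (hK : FunFld.IsFunctionField k K) (hg : _root_.FunFld.genus k K = 0)
    (hD : D.deg = (d : ℤ)) (hV : V ≤ _root_.FunFld.L D) (hr : Module.finrank k ↥V = r + 1)
    {Q P P' : _root_.FunFld.Place k K} (hc : r ≤ Basic.van V D Q 2) (hP : P ≠ Q) (hP' : P' ≠ Q)
    (hPP : P ≠ P')
    {f g : K} (hf : f ∈ V) (hg' : g ∈ V) (hf0 : f ≠ 0) (hg0 : g ≠ 0) {a a' : ℕ} (ha : a ≤ d) (ha' : a' < a)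
    (hf1 : f ∈ _root_.FunFld.L (D - Finsupp.single P (a : ℤ)))
    (hf2 : f ∈ _root_.FunFld.L (D - Finsupp.single P' ((d - a : ℕ) : ℤ)))
    (hg1 : g ∈ _root_.FunFld.L (D - Finsupp.single P (a' : ℤ)))
    (hg2 : g ∈ _root_.FunFld.L (D - Finsupp.single P' ((d - a' : ℕ) : ℤ)))
    (hli : LinearIndependent k ![f, g]) : False := by
  classical
  have : FiniteDimensional k ↥V := FiniteDimensional.of_finrank_pos (by omega)
  set W := Submodule.span k (Set.range ![f, g])
  have hWV : W ≤ V := Submodule.span_le.mpr (by rintro _ ⟨i, rfl⟩; fin_cases i <;> simpa)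
  have hfW : f ∈ W := Submodule.subset_span ⟨0, rfl⟩
  have hgW : g ∈ W := Submodule.subset_span ⟨1, rfl⟩
  have : FiniteDimensional k ↥W := Submodule.finiteDimensional_of_le hWV
  have hWr : Module.finrank k ↥W = 1 + 1 := by rw [finrank_span_eq_card hli]; rfl
  have hmono : ∀ (R : _root_.FunFld.Place k K) {m n : ℕ}, n ≤ m →
      _root_.FunFld.L (D - Finsupp.single R (m : ℤ)) ≤ _root_.FunFld.L (D - Finsupp.single R (n : ℤ)) :=
    fun R m n h => L_mono (sub_le_sub_left (Finsupp.single_le_single.mpr (by exact_mod_cast h)) _)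
  have h2 : ∀ (R : _root_.FunFld.Place k K) (n : ℕ), f ∈ _root_.FunFld.L (D - Finsupp.single R (n : ℤ)) →
      g ∈ _root_.FunFld.L (D - Finsupp.single R (n : ℤ)) → 1 + 1 - 0 ≤ Basic.van W D R n := by
    intro R n h h'
    rw [Basic.van, inf_eq_left.mpr (Submodule.span_le.mpr ?_), hWr]
    rintro _ ⟨i, rfl⟩
    fin_cases i <;> simpa
  have hA : ∑ i, ![a', a] i ≤ Basic.S W D P d := by
    refine sum_ge_of_van hK hD (hWV.trans hV) hWr P _ (fun i => by fin_cases i <;> simp <;> omega) fun i => ?_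
    fin_cases i
    · exact h2 P a' (hmono P ha'.le hf1) hg1
    · exact one_le_van_of_mem hK hfW hf0 hf1
  have hA' : ∑ i, ![d - a, d - a'] i ≤ Basic.S W D P' d := by
    refine sum_ge_of_van hK hD (hWV.trans hV) hWr P' _ (fun i => by fin_cases i <;> simp) fun i => ?_
    fin_cases i
    · exact h2 P' (d - a) hf2 (hmono P' (by omega) hg2)
    · exact one_le_van_of_mem hK hgW hg0 hg2
  have hr1 : 1 ≤ r := by
    have := Submodule.finrank_mono hWV
    omega
  have hd2 : 2 ≤ d := by
    by_contra hlt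
    have := Basic.van_eq_zero (V := V) hK hD Q (n := 2) (by omega)
    omega
  have hB : ∑ i, ![0, 2] i ≤ Basic.S W D Q d := by
    refine sum_ge_of_van hK hD (hWV.trans hV) hWr Q _ (fun i => by fin_cases i <;> simp; omega) fun i => ?_
    fin_cases i
    · change 1 + 1 - 0 ≤ Basic.van W D Q ((0 : ℕ) : ℤ)
      rw [Basic.van, Nat.cast_zero, Finsupp.single_zero, sub_zero, inf_eq_left.mpr (hWV.trans hV), hWr]
    · change 1 + 1 - 1 ≤ Basic.van W D Q ((2 : ℕ) : ℤ)
      set W₂ := V ⊓ _root_.FunFld.L (D - Finsupp.single Q 2)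
      have : FiniteDimensional k ↥W₂ := Submodule.finiteDimensional_of_le inf_le_left
      have hs := Submodule.finrank_sup_add_finrank_inf_eq W W₂
      have hle : Module.finrank k ↥(W ⊔ W₂) ≤ r + 1 :=
        hr ▸ Submodule.finrank_mono (sup_le hWV inf_le_left)
      have hW2 : r ≤ Module.finrank k ↥W₂ := hc
      have hsub : W ⊓ W₂ ≤ W ⊓ _root_.FunFld.L (D - Finsupp.single Q ((2 : ℕ) : ℤ)) :=
        le_inf inf_le_left (inf_le_right.trans inf_le_right)
      have := Submodule.finrank_mono hsub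
      unfold Basic.van
      omega
  have := three_point hK hg hD (hWV.trans hV) hWr hPP hP hP'
  simp only [Fin.sum_univ_two, Matrix.cons_val_zero, Matrix.cons_val_one, Matrix.cons_val_fin_one] at hA hA' hB
  omega

end One

section Backbone

variable [CharZero k] {N : ℕ} {Z : Fin (N + 1) → Type v} [∀ i, Field (Z i)] [∀ i, Algebra k (Z i)]
  {D : ∀ i, _root_.FunFld.Divisor k (Z i)} {V : ∀ i, Submodule k (Z i)} {d r : ℕ}
  {A B : ∀ i, _root_.FunFld.Place k (Z i)}

theorem prefix_bound (hZ : ∀ i, FunFld.IsFunctionField k (Z i))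
    (hrat : ∀ i, _root_.FunFld.genus k (Z i) = 0) (hD : ∀ i, (D i).deg = d)
    (hV : ∀ i, V i ≤ _root_.FunFld.L (D i)) (hVr : ∀ i, Module.finrank k ↥(V i) = r + 1)
    (hAB : ∀ i, A i ≠ B i)
    (hcomp : ∀ l : Fin N, Basic.S (V l.castSucc) (D l.castSucc) (B l.castSucc) d +
      Basic.S (V l.succ) (D l.succ) (A l.succ) d = (r + 1) * d)
    (T : Finset (Fin (N + 1))) (Q : ∀ i, _root_.FunFld.Place k (Z i))
    (hQA : ∀ i ∈ T, Q i ≠ A i) (hQB : ∀ i ∈ T, Q i ≠ B i)
    (hcusp : ∀ i ∈ T, r ≤ Basic.van (V i) (D i) (Q i) 2) (i : Fin (N + 1)) :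
    r * (r + 1) / 2 + r * (T.filter (· < i)).card ≤ Basic.S (V i) (D i) (A i) d := by
  induction i using Fin.induction with
  | zero =>
    rw [Finset.filter_eq_empty_iff.mpr fun x _ => not_lt.mpr (Fin.zero_le x), Finset.card_empty,
      mul_zero, add_zero]
    exact Basic.le_S (hZ 0) (hD 0) (hV 0) (hVr 0) _
  | succ l ih =>
    have hc := hcomp l
    have hsum := Basic.S_add_S_le (hZ l.castSucc) (hD l.castSucc) (hVr l.castSucc) (hAB l.castSucc)
    by_cases hl : l.castSucc ∈ T
    · have hQ := Basic.le_S_of_cusp (hZ _) (hD _) (hV _) (hVr _) (Q l.castSucc) (hcusp _ hl)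
      have h3 := three_point (hZ _) (hrat _) (hD _) (hV _) (hVr _) (hAB l.castSucc)
        (hQA _ hl).symm (hQB _ hl).symm
      have hcard : (T.filter (· < l.succ)).card = (T.filter (· < l.castSucc)).card + 1 := by
        classical
        rw [show T.filter (· < l.succ) = insert l.castSucc (T.filter (· < l.castSucc)) by
          ext x
          simp only [Finset.mem_filter, Finset.mem_insert, Fin.lt_def, Fin.val_succ, Fin.val_castSucc,
            Fin.ext_iff]
          constructor
          · rintro ⟨h1, h2⟩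
            rcases Nat.lt_succ_iff_lt_or_eq.mp h2 with h | h
            · exact Or.inr ⟨h1, h⟩
            · exact Or.inl h
          · rintro (h | ⟨h1, h2⟩)
            · exact ⟨(Fin.ext h : x = l.castSucc) ▸ hl, by omega⟩
            · exact ⟨h1, by omega⟩, Finset.card_insert_of_notMem (by simp)]
      rw [hcard]
      have := mul_add_one r (T.filter (· < l.castSucc)).card
      omega
    · have hcard : (T.filter (· < l.succ)).card = (T.filter (· < l.castSucc)).card := by
        congr 1
        ext x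
        simp only [Finset.mem_filter, and_congr_right_iff, Fin.lt_def, Fin.val_succ, Fin.val_castSucc]
        intro hx
        have : (x : ℕ) ≠ l := fun h => hl ((Fin.ext h : x = l.castSucc) ▸ hx)
        omega
      rw [hcard]
      omega

theorem suffix_bound (hZ : ∀ i, FunFld.IsFunctionField k (Z i))
    (hrat : ∀ i, _root_.FunFld.genus k (Z i) = 0) (hD : ∀ i, (D i).deg = d)
    (hV : ∀ i, V i ≤ _root_.FunFld.L (D i)) (hVr : ∀ i, Module.finrank k ↥(V i) = r + 1)
    (hAB : ∀ i, A i ≠ B i)
    (hcomp : ∀ l : Fin N, Basic.S (V l.castSucc) (D l.castSucc) (B l.castSucc) d +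
      Basic.S (V l.succ) (D l.succ) (A l.succ) d = (r + 1) * d)
    (T : Finset (Fin (N + 1))) (Q : ∀ i, _root_.FunFld.Place k (Z i))
    (hQA : ∀ i ∈ T, Q i ≠ A i) (hQB : ∀ i ∈ T, Q i ≠ B i)
    (hcusp : ∀ i ∈ T, r ≤ Basic.van (V i) (D i) (Q i) 2) (i : Fin (N + 1)) :
    r * (r + 1) / 2 + r * (T.filter (i < ·)).card ≤ Basic.S (V i) (D i) (B i) d := by
  induction i using Fin.reverseInduction with
  | last =>
    rw [Finset.filter_eq_empty_iff.mpr fun x _ => not_lt.mpr (Fin.le_last x), Finset.card_empty,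
      mul_zero, add_zero]
    exact Basic.le_S (hZ _) (hD _) (hV _) (hVr _) _
  | cast l ih =>
    have hc := hcomp l
    have hsum := Basic.S_add_S_le (hZ l.succ) (hD l.succ) (hVr l.succ) (hAB l.succ)
    by_cases hl : l.succ ∈ T
    · have hQ := Basic.le_S_of_cusp (hZ _) (hD _) (hV _) (hVr _) (Q l.succ) (hcusp _ hl)
      have h3 := three_point (hZ _) (hrat _) (hD _) (hV _) (hVr _) (hAB l.succ)
        (hQA _ hl).symm (hQB _ hl).symm
      have hcard : (T.filter (l.castSucc < ·)).card = (T.filter (l.succ < ·)).card + 1 := by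
        classical
        rw [show T.filter (l.castSucc < ·) = insert l.succ (T.filter (l.succ < ·)) by
          ext x
          simp only [Finset.mem_filter, Finset.mem_insert, Fin.lt_def, Fin.val_succ, Fin.val_castSucc,
            Fin.ext_iff]
          constructor
          · rintro ⟨h1, h2⟩
            rcases Nat.lt_or_eq_of_le (Nat.succ_le_of_lt h2) with h | h
            · exact Or.inr ⟨h1, h⟩
            · exact Or.inl h.symm
          · rintro (h | ⟨h1, h2⟩)
            · exact ⟨(Fin.ext (by simpa using h) : x = l.succ) ▸ hl, by omega⟩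
            · exact ⟨h1, by omega⟩, Finset.card_insert_of_notMem (by simp)]
      rw [hcard]
      have := mul_add_one r (T.filter (l.succ < ·)).card
      omega
    · have hcard : (T.filter (l.castSucc < ·)).card = (T.filter (l.succ < ·)).card := by
        congr 1
        ext x
        simp only [Finset.mem_filter, and_congr_right_iff, Fin.lt_def, Fin.val_succ, Fin.val_castSucc]
        intro hx
        have : (x : ℕ) ≠ (l : ℕ) + 1 := fun h => hl ((Fin.ext (by simpa using h) : x = l.succ) ▸ hx)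
        omega
      rw [hcard]
      omega

theorem card_split (T : Finset (Fin (N + 1))) (i : Fin (N + 1)) :
    (T.filter (· < i)).card + (T.filter (i < ·)).card = (T.erase i).card := by
  classical
  rw [← Finset.card_union_of_disjoint (by
    rw [Finset.disjoint_filter]; intro x _ h; exact not_lt.mpr h.le), ← Finset.filter_or]
  congr 1
  ext x
  rw [Finset.mem_filter, Finset.mem_erase, ne_iff_lt_or_gt]
  exact and_comm

/-- Replace the unused outer node places so that all components look alike. -/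
theorem exists_fresh (hZ : ∀ i, FunFld.IsFunctionField k (Z i)) (T : Finset (Fin (N + 1)))
    (Q Q' : ∀ i, _root_.FunFld.Place k (Z i))
    (hAB : ∀ i : Fin (N + 1), 0 < (i : ℕ) → (i : ℕ) < N → A i ≠ B i)
    (hQA : ∀ i ∈ T, 0 < (i : ℕ) → Q i ≠ A i) (hQB : ∀ i ∈ T, (i : ℕ) < N → Q i ≠ B i) :
    ∃ A' B' : ∀ i, _root_.FunFld.Place k (Z i),
      (∀ i, A' i ≠ B' i) ∧ (∀ i ∈ T, Q i ≠ A' i) ∧ (∀ i ∈ T, Q i ≠ B' i) ∧
      (∀ i : Fin (N + 1), 0 < (i : ℕ) → A' i = A i) ∧
      (∀ i : Fin (N + 1), (i : ℕ) < N → B' i = B i) ∧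
      (∀ i : Fin (N + 1), ¬ 0 < (i : ℕ) → A' i ≠ Q' i) ∧
      (∀ i : Fin (N + 1), ¬ (i : ℕ) < N → B' i ≠ Q' i) := by
  classical
  choose fA hfA using fun i => Basic.exists_place_notMem (hZ i) {B i, Q i, Q' i}
  choose fB hfB using fun i => Basic.exists_place_notMem (hZ i) {A i, fA i, Q i, Q' i}
  simp only [Finset.mem_insert, Finset.mem_singleton, not_or] at hfA hfB
  refine ⟨fun i => if 0 < (i : ℕ) then A i else fA i, fun i => if (i : ℕ) < N then B i else fB i,
    fun i => ?_, fun i hi => ?_, fun i hi => ?_, fun i h => if_pos h, fun i h => if_pos h,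
    fun i h => ?_, fun i h => ?_⟩
  · dsimp only
    split_ifs with h1 h2 h2
    · exact hAB i h1 h2
    · exact Ne.symm (hfB i).1
    · exact (hfA i).1
    · exact Ne.symm (hfB i).2.1
  · dsimp only
    split_ifs with h1
    · exact hQA i hi h1
    · exact Ne.symm (hfA i).2.1
  · dsimp only
    split_ifs with h1
    · exact hQB i hi h1
    · exact Ne.symm (hfB i).2.2.1
  · dsimp only; rw [if_neg h]; exact (hfA i).2.2
  · dsimp only; rw [if_neg h]; exact (hfB i).2.2.2

end Backbone

section Tail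

variable {n : ℕ} {U : Fin (n + 1) → Type v} [∀ l, Field (U l)] [∀ l, Algebra k (U l)]
  {D : ∀ l, _root_.FunFld.Divisor k (U l)} {V : ∀ l, Submodule k (U l)} {d r : ℕ}
  {A B : ∀ l, _root_.FunFld.Place k (U l)}

theorem tail_bound (hU : ∀ l, FunFld.IsFunctionField k (U l))
    (hD : ∀ l, (D l).deg = d) (hVr : ∀ l, Module.finrank k ↥(V l) = r + 1)
    (hAB : ∀ l : Fin (n + 1), 0 < (l : ℕ) → (l : ℕ) < n → A l ≠ B l)
    (hcomp : ∀ l : Fin n, Basic.S (V l.castSucc) (D l.castSucc) (B l.castSucc) d +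
      Basic.S (V l.succ) (D l.succ) (A l.succ) d = (r + 1) * d)
    (c : ℕ) (hc : Basic.S (V 0) (D 0) (B 0) d + c + r * (r + 1) ≤ (r + 1) * d + r * (r + 1) / 2)
    (l : Fin (n + 1)) (hl : 0 < (l : ℕ)) :
    c + r * (r + 1) / 2 ≤ Basic.S (V l) (D l) (A l) d := by
  induction l using Fin.induction with
  | zero => simp at hl
  | succ l ih =>
    have hcl := hcomp l
    have := two_tri r
    rcases Nat.eq_zero_or_pos (l : ℕ) with h0 | h0
    · have : l.castSucc = (0 : Fin (n + 1)) := Fin.ext (by simpa using h0)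
      rw [this] at hcl
      omega
    · have := ih (by simpa using h0)
      have := Basic.S_add_S_le (hU l.castSucc) (hD l.castSucc) (hVr l.castSucc)
        (hAB l.castSucc (by simpa using h0) (by simp))
      omega

theorem cusp_chain (hU : ∀ l, FunFld.IsFunctionField k (U l))
    (hD : ∀ l, (D l).deg = d) (hV : ∀ l, V l ≤ _root_.FunFld.L (D l))
    (hVr : ∀ l, Module.finrank k ↥(V l) = r + 1)
    (hAB : ∀ l : Fin (n + 1), 0 < (l : ℕ) → (l : ℕ) < n → A l ≠ B l)
    (hcomp : ∀ (l : Fin n) (m : ℕ), m ≤ d + 1 →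
      Basic.van (V l.castSucc) (D l.castSucc) (B l.castSucc) (m : ℤ) +
        Basic.van (V l.succ) (D l.succ) (A l.succ) ((d : ℤ) + 1 - m) = r + 1)
    (hpos : 0 < _root_.FunFld.genus k (U (Fin.last n))) (l : Fin (n + 1)) (hl : (l : ℕ) < n) :
    r ≤ Basic.van (V l) (D l) (B l) 2 := by
  induction l using Fin.reverseInduction with
  | last => simp at hl
  | cast l ih =>
    rcases Nat.eq_zero_or_pos r with hr0 | hr0
    · simp [hr0]
    have hd : 1 ≤ d := by
      by_contra hd
      have h0 := Basic.van_eq_zero (V := V l.castSucc) (hU _) (hD _) (B l.castSucc) (n := 1) (by omega)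
      have hF := Basic.isDimFun (hU _) (hD _) (hV _) (hVr _) (B l.castSucc)
      have h1 := hF.lower 1
      simp only [Nat.cast_one] at h1
      omega
    have h := hcomp l 2 (by omega)
    have hA : Basic.van (V l.succ) (D l.succ) (A l.succ) ((d : ℤ) - 1) ≤ 1 := by
      rcases Nat.lt_or_ge ((l : ℕ) + 1) n with hln | hln
      · exact van_le_one_of_cusp (hU _) (hD _) (hV _) (hVr _) (hAB l.succ (by simp) (by simpa using hln))
          (ih (by simpa using hln))
      · have hlast : l.succ = Fin.last n := Fin.ext (by have := l.2; simp only [Fin.val_succ, Fin.val_last]; omega)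
        have hdeg : (D l.succ - Finsupp.single (A l.succ) ((d : ℤ) - 1)).deg = 1 := by
          rw [deg_sub, deg_single, hD, Rational.deg_eq_one (hU _)]; push_cast; ring
        have h1 := finrank_le_one (hU l.succ) (hlast ▸ hpos) hdeg
        have := finiteDimensional_L (hU _) (D l.succ - Finsupp.single (A l.succ) ((d : ℤ) - 1))
        exact le_trans (Submodule.finrank_mono inf_le_right) h1
    rw [show ((2 : ℕ) : ℤ) = 2 from rfl, show (d : ℤ) + 1 - 2 = (d : ℤ) - 1 by ring] at h
    omega

end Tail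

end Groth.Agent.Lib.FunFld.LinSer.Chain
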