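import Groth.Agent.Lib.FunFld.LinSer.Chain

/-! Members of a linear series with prescribed vanishing at two places. -/

namespace Groth.Agent.Lib.FunFld.LinSer.Members

open Groth.Agent.Lib.FunFld.Place Groth.Agent.Lib.FunFld.Degree
open Groth.Agent.Lib.FunFld.LinSer

universe u v
variable {k : Type u} [Field k] [IsAlgClosed k] {K : Type v} [Field K] [Algebra k K]
  {V : Submodule k K} {D : _root_.FunFld.Divisor k K} {d r : ℕ}

omit [IsAlgClosed k] in
theorem exists_mem {P Q : _root_.FunFld.Place k K} (hr : Module.finrank k ↥V = r + 1) {a b : ℤ}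
    (h : r + 2 ≤ Basic.van V D P a + Basic.van V D Q b) :
    ∃ f ∈ V, f ≠ 0 ∧ f ∈ _root_.FunFld.L (D - Finsupp.single P a) ∧
      f ∈ _root_.FunFld.L (D - Finsupp.single Q b) := by
  have : FiniteDimensional k ↥V := FiniteDimensional.of_finrank_pos (by omega)
  set W₁ := V ⊓ _root_.FunFld.L (D - Finsupp.single P a)
  set W₂ := V ⊓ _root_.FunFld.L (D - Finsupp.single Q b)
  have : FiniteDimensional k ↥W₁ := Submodule.finiteDimensional_of_le inf_le_left
  have : FiniteDimensional k ↥W₂ := Submodule.finiteDimensional_of_le inf_le_left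
  have hs := Submodule.finrank_sup_add_finrank_inf_eq W₁ W₂
  have hle : Module.finrank k ↥(W₁ ⊔ W₂) ≤ r + 1 :=
    hr ▸ Submodule.finrank_mono (sup_le inf_le_left inf_le_left)
  have hne : W₁ ⊓ W₂ ≠ ⊥ := by
    intro h0
    rw [h0, finrank_bot] at hs
    change r + 2 ≤ Module.finrank k ↥W₁ + Module.finrank k ↥W₂ at h
    omega
  obtain ⟨f, hf, hf0⟩ := Submodule.exists_mem_ne_zero_of_ne_bot hne
  exact ⟨f, hf.1.1, hf0, hf.1.2, hf.2.2⟩

theorem div_add_eq (hK : FunFld.IsFunctionField k K) (hD : D.deg = (d : ℤ))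
    {P Q : _root_.FunFld.Place k K} (hPQ : P ≠ Q) {f : K} (hf0 : f ≠ 0) {a b : ℤ}
    (hab : a + b = d) (h1 : f ∈ _root_.FunFld.L (D - Finsupp.single P a))
    (h2 : f ∈ _root_.FunFld.L (D - Finsupp.single Q b)) :
    _root_.FunFld.div k f + D = Finsupp.single P a + Finsupp.single Q b := by
  have e1 := ((mem_L_iff_div hK).mp h1).resolve_left hf0
  have e2 := ((mem_L_iff_div hK).mp h2).resolve_left hf0
  set E := _root_.FunFld.div k f + D - (Finsupp.single P a + Finsupp.single Q b) with hEdef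
  have hE : 0 ≤ E := by
    rw [Finsupp.le_def]
    intro R
    have r1 := Finsupp.le_def.mp e1 R
    have r2 := Finsupp.le_def.mp e2 R
    simp only [hEdef, Finsupp.coe_zero, Pi.zero_apply, Finsupp.add_apply, Finsupp.sub_apply] at r1 r2 ⊢
    rcases eq_or_ne R P with rfl | hR
    · rw [Finsupp.single_eq_of_ne hPQ] at r2 ⊢
      omega
    · rw [Finsupp.single_eq_of_ne hR] at r1 ⊢
      omega
  have hdeg : E.deg = 0 := by
    rw [hEdef, deg_sub, deg_add, deg_add, deg_div hK, deg_single, deg_single, hD,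
      Rational.deg_eq_one hK, Rational.deg_eq_one hK]
    omega
  have h0 : E = 0 := by
    ext R
    by_contra hne
    have hmem : R ∈ E.support := Finsupp.mem_support_iff.mpr hne
    have hpos := Finset.single_le_sum (f := fun S => E S * (S.deg : ℤ))
      (fun S _ => mul_nonneg (Finsupp.le_def.mp hE S) (Int.natCast_nonneg _)) hmem
    have hsum : ∑ S ∈ E.support, E S * (S.deg : ℤ) = 0 := hdeg
    rw [hsum, Rational.deg_eq_one hK] at hpos
    have := Finsupp.le_def.mp hE R
    simp only [Finsupp.coe_zero, Pi.zero_apply] at this hne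
    omega
  exact sub_eq_zero.mp h0

omit [IsAlgClosed k] in
theorem eq_smul_of_div_eq (hK : FunFld.IsFunctionField k K) {f g : K} (hf0 : f ≠ 0) (hg0 : g ≠ 0)
    (h : _root_.FunFld.div k f + D = _root_.FunFld.div k g + D) : ∃ c : k, g = c • f := by
  have h0 : g / f ∈ _root_.FunFld.L (0 : _root_.FunFld.Divisor k K) := by
    refine (mem_L_iff_div hK).mpr (Or.inr ?_)
    rw [add_zero, div_eq_mul_inv, div_mul hK hg0 (inv_ne_zero hf0), div_inv hK, add_right_cancel h,
      add_neg_cancel]
  rw [L_zero hK, Submodule.mem_one] at h0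
  obtain ⟨c, hc⟩ := h0
  exact ⟨c, by rw [Algebra.smul_def, hc, div_mul_cancel₀ g hf0]⟩

end Groth.Agent.Lib.FunFld.LinSer.Members
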