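import Mathlib.Algebra.Polynomial.Derivative
import Mathlib.Algebra.Polynomial.BigOperators
import Mathlib.LinearAlgebra.Vandermonde
import Mathlib.RingTheory.Polynomial.Pochhammer
import Mathlib.Algebra.Polynomial.RingDivision
import Mathlib.RingTheory.Coprime.Lemmas
import Mathlib.LinearAlgebra.Matrix.Determinant.Basic

/-! Wronskians of polynomials in characteristic zero. -/

namespace Groth.Agent.Lib.FunFld.LinSer.Wronskian

open Polynomial Matrix

variable {k : Type*} [Field k] {m : ℕ}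

/-- The Wronskian matrix of a tuple of polynomials. -/
noncomputable def mat (f : Fin m → k[X]) : Matrix (Fin m) (Fin m) k[X] :=
  Matrix.of fun i j => derivative^[(j : ℕ)] (f i)

/-- The Wronskian. -/
noncomputable def W (f : Fin m → k[X]) : k[X] := (mat f).det

/-- `0 + 1 + ⋯ + (m-1)`. -/
def tri (m : ℕ) : ℕ := ∑ j : Fin m, (j : ℕ)

theorem W_linear (f : Fin m → k[X]) (c : Matrix (Fin m) (Fin m) k) :
    W (fun i => ∑ l, c i l • f l) = C c.det * W f := by
  have hmat : mat (fun i => ∑ l, c i l • f l) = c.map C * mat f := by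
    ext1 i j
    simp only [mat, Matrix.of_apply, Matrix.mul_apply, Matrix.map_apply,
      iterate_derivative_sum, Polynomial.smul_eq_C_mul, iterate_derivative_C_mul]
  rw [W, W, hmat, Matrix.det_mul, RingHom.map_det]
  rfl

theorem det_mul_diag (f : Fin m → k[X]) (q : k[X]) :
    (Matrix.of fun i (j : Fin m) => q ^ (j : ℕ) * mat f i j).det = q ^ tri m * W f := by
  rw [Matrix.det_mul_row (fun j : Fin m => q ^ (j : ℕ)) (mat f), Finset.prod_pow_eq_pow_sum]
  rfl

theorem dvd_W (f : Fin m → k[X]) (c : k) (a : Fin m → ℕ)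
    (h : ∀ i, (X - C c) ^ a i ∣ f i) :
    (X - C c) ^ (∑ i, a i) ∣ (X - C c) ^ tri m * W f := by
  rw [← det_mul_diag f (X - C c), ← Finset.prod_pow_eq_pow_sum]
  have hd : ∀ i (j : Fin m), (X - C c) ^ a i ∣ (X - C c) ^ (j : ℕ) * mat f i j := by
    intro i j
    have h1 := mul_dvd_mul_left ((X - C c) ^ (j : ℕ))
      (pow_sub_dvd_iterate_derivative_of_pow_dvd (j : ℕ) (h i))
    rw [← pow_add] at h1
    exact (pow_dvd_pow _ (by omega)).trans h1
  choose r hr using hd
  have : (Matrix.of fun i (j : Fin m) => (X - C c) ^ (j : ℕ) * mat f i j) =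
      Matrix.of fun i j => (X - C c) ^ a i * (Matrix.of r) i j := by
    ext1 i j
    simp only [Matrix.of_apply]
    exact hr i j
  rw [this, Matrix.det_mul_column (fun i => (X - C c) ^ a i) (Matrix.of r)]
  exact dvd_mul_right _ _

variable [CharZero k]

theorem coeff_W (f : Fin m → k[X]) (e : Fin m → ℕ) (he : ∀ i, (f i).natDegree ≤ e i) :
    (X ^ tri m * W f).natDegree ≤ ∑ i, e i ∧
    (X ^ tri m * W f).coeff (∑ i, e i) =
      (Matrix.of fun i (j : Fin m) => (((e i).descFactorial (j : ℕ) : ℕ) : k) * (f i).coeff (e i)).det := by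
  rw [← det_mul_diag f X]
  have hdeg : ∀ i (j : Fin m), (X ^ (j : ℕ) * mat f i j).natDegree ≤ e i ∧
      (X ^ (j : ℕ) * mat f i j).coeff (e i) =
        (((e i).descFactorial (j : ℕ) : ℕ) : k) * (f i).coeff (e i) := by
    intro i j
    rcases le_or_gt (j : ℕ) (e i) with hj | hj
    · constructor
      · refine natDegree_mul_le.trans ?_
        rw [natDegree_X_pow]
        have := natDegree_iterate_derivative (f i) (j : ℕ)
        have := he i
        simp only [mat, Matrix.of_apply]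
        omega
      · simp only [mat, Matrix.of_apply]
        rw [coeff_X_pow_mul', if_pos hj, coeff_iterate_derivative, Nat.sub_add_cancel hj,
          nsmul_eq_mul]
    · have h0 : mat f i j = 0 := iterate_derivative_eq_zero ((he i).trans_lt hj)
      simp [h0, Nat.descFactorial_eq_zero_iff_lt.mpr hj]
  have hterm : ∀ σ : Equiv.Perm (Fin m),
      (∏ i, X ^ (σ i : ℕ) * mat f i (σ i)).natDegree ≤ ∑ i, e i ∧
      (∏ i, X ^ (σ i : ℕ) * mat f i (σ i)).coeff (∑ i, e i) =
        ∏ i, ((((e i).descFactorial (σ i : ℕ) : ℕ) : k) * (f i).coeff (e i)) := by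
    intro σ
    have h1 : ∀ s : Finset (Fin m), (∏ i ∈ s, X ^ (σ i : ℕ) * mat f i (σ i)).natDegree ≤ ∑ i ∈ s, e i ∧
        (∏ i ∈ s, X ^ (σ i : ℕ) * mat f i (σ i)).coeff (∑ i ∈ s, e i) =
          ∏ i ∈ s, ((((e i).descFactorial (σ i : ℕ) : ℕ) : k) * (f i).coeff (e i)) := by
      classical
      intro s
      induction s using Finset.induction_on with
      | empty => simp
      | insert a s ha ih =>
        rw [Finset.prod_insert ha, Finset.sum_insert ha, Finset.prod_insert ha]
        refine ⟨natDegree_mul_le.trans (Nat.add_le_add (hdeg a (σ a)).1 ih.1), ?_⟩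
        rw [coeff_mul_add_eq_of_natDegree_le (hdeg a (σ a)).1 ih.1, (hdeg a (σ a)).2, ih.2]
    exact h1 Finset.univ
  rw [← Matrix.det_transpose, Matrix.det_apply]
  conv_rhs => rw [← Matrix.det_transpose, Matrix.det_apply]
  simp only [Matrix.transpose_apply, Matrix.of_apply]
  refine ⟨natDegree_sum_le_of_forall_le _ _ fun σ _ => (natDegree_smul_le _ _).trans (hterm σ).1, ?_⟩
  rw [finsetSum_coeff]
  refine Finset.sum_congr rfl fun σ _ => ?_
  rw [coeff_smul, (hterm σ).2]

theorem natDegree_W (f : Fin m → k[X]) (e : Fin m → ℕ) (hinj : Function.Injective e)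
    (he : ∀ i, (f i).natDegree ≤ e i) (hlc : ∀ i, (f i).coeff (e i) ≠ 0) :
    W f ≠ 0 ∧ tri m + (W f).natDegree ≤ ∑ i, e i := by
  obtain ⟨hd, hc⟩ := coeff_W f e he
  have hdet : (Matrix.of fun i (j : Fin m) =>
      (((e i).descFactorial (j : ℕ) : ℕ) : k) * (f i).coeff (e i)).det ≠ 0 := by
    have : (Matrix.of fun i (j : Fin m) =>
        (((e i).descFactorial (j : ℕ) : ℕ) : k) * (f i).coeff (e i)) =
        Matrix.of fun i (j : Fin m) => (f i).coeff (e i) *
          (Matrix.of fun i (j : Fin m) => (descPochhammer k (j : ℕ)).eval ((e i : ℕ) : k)) i j := by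
      ext1 i j
      simp only [Matrix.of_apply, descPochhammer_eval_eq_descFactorial]
      ring
    rw [this, Matrix.det_mul_column (fun i => (f i).coeff (e i))
      (Matrix.of fun i (j : Fin m) => (descPochhammer k (j : ℕ)).eval ((e i : ℕ) : k)),
      ← Matrix.det_eval_matrixOfPolynomials_eq_det_vandermonde _ _
        (fun j => descPochhammer_natDegree k (j : ℕ)) (fun j => monic_descPochhammer k (j : ℕ))]
    refine mul_ne_zero (Finset.prod_ne_zero_iff.mpr fun i _ => hlc i) ?_
    exact Matrix.det_vandermonde_ne_zero_iff.mpr (Nat.cast_injective.comp hinj)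
  have hne : X ^ tri m * W f ≠ 0 := fun h => hdet (by rw [← hc, h]; simp)
  have hW : W f ≠ 0 := right_ne_zero_of_mul hne
  refine ⟨hW, ?_⟩
  rwa [natDegree_mul (pow_ne_zero _ X_ne_zero) hW, natDegree_X_pow] at hd

/-- Plücker: the ramification of a space of polynomials, counted at finitely many finite points. -/
theorem sum_ramification_le (f : Fin m → k[X]) (e : Fin m → ℕ) (hinj : Function.Injective e)
    (he : ∀ i, (f i).natDegree ≤ e i) (hlc : ∀ i, (f i).coeff (e i) ≠ 0)
    (s : Finset k) (a : k → Fin m → ℕ) (g : k → Fin m → k[X])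
    (T : k → Matrix (Fin m) (Fin m) k) (hT : ∀ c ∈ s, (T c).det ≠ 0)
    (hg : ∀ c ∈ s, g c = fun i => ∑ l, T c i l • f l)
    (hdvd : ∀ c ∈ s, ∀ i, (X - C c) ^ a c i ∣ g c i) :
    ∑ c ∈ s, ((∑ i, a c i : ℕ) - (tri m : ℤ)) ≤ (∑ i, e i : ℕ) - (tri m : ℤ) := by
  classical
  obtain ⟨hW, hdeg⟩ := natDegree_W f e hinj he hlc
  have hdiv : ∀ c ∈ s, (X - C c) ^ ((∑ i, a c i) - tri m) ∣ W f := by
    intro c hc
    have h := dvd_W (g c) c (a c) (hdvd c hc)
    rw [hg c hc, W_linear, mul_left_comm,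
      IsUnit.dvd_mul_left (isUnit_C.mpr (isUnit_iff_ne_zero.mpr (hT c hc)))] at h
    rcases le_or_gt (∑ i, a c i) (tri m) with hle | hlt
    · rw [Nat.sub_eq_zero_of_le hle, pow_zero]; exact one_dvd _
    · conv at h => lhs; rw [← Nat.add_sub_cancel' hlt.le, pow_add]
      exact (mul_dvd_mul_iff_left (pow_ne_zero _ (X_sub_C_ne_zero c))).mp h
  have hprod : (∏ c ∈ s, (X - C c) ^ ((∑ i, a c i) - tri m)) ∣ W f :=
    Finset.prod_dvd_of_coprime (fun c _ c' _ hne => (Polynomial.isCoprime_X_sub_C_of_isUnit_sub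
      (isUnit_iff_ne_zero.mpr (sub_ne_zero.mpr hne))).pow) hdiv
  have h1 := natDegree_le_of_dvd hprod hW
  rw [natDegree_prod _ _ fun c _ => pow_ne_zero _ (X_sub_C_ne_zero c)] at h1
  simp only [natDegree_pow, natDegree_X_sub_C, mul_one] at h1
  have h2 : ∑ c ∈ s, ((∑ i, a c i : ℕ) - (tri m : ℤ)) ≤
      ((∑ c ∈ s, ((∑ i, a c i) - tri m) : ℕ) : ℤ) := by
    rw [Nat.cast_sum]
    exact Finset.sum_le_sum fun c _ => by omega
  omega

end Groth.Agent.Lib.FunFld.LinSer.Wronskian
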