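import Groth.Agent.Lib.FunFld.LinSer.Basic
import Groth.Agent.Lib.FunFld.LinSer.Wronskian
import Mathlib.LinearAlgebra.Matrix.ToLinearEquiv

/-! The Plücker inequality for linear series on a rational function field in characteristic zero. -/

namespace Groth.Agent.Lib.FunFld.LinSer.Plucker

open WithZero Polynomial
open Groth.Agent.Lib.FunFld.Place Groth.Agent.Lib.FunFld.Degree Groth.Agent.Lib.FunFld.Existence
open Groth.Agent.Lib.FunFld.LinSer

universe u v
variable {k : Type u} {K : Type v} [Field k] [Field K] [Algebra k K]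

local notation "Pl" => _root_.FunFld.Place k K
local notation "Dv" => _root_.FunFld.Divisor k K

theorem exists_adapted (hK : FunFld.IsFunctionField k K) [IsAlgClosed k] {V : Submodule k K}
    {D : _root_.FunFld.Divisor k K} {d r : ℕ} (hD : D.deg = (d : ℤ))
    (hV : V ≤ _root_.FunFld.L D) (hr : Module.finrank k ↥V = r + 1)
    (P : _root_.FunFld.Place k K) :
    ∃ b : Fin (r + 1) → K, LinearIndependent k b ∧ Submodule.span k (Set.range b) = V ∧
      ∀ i, b i ≠ 0 ∧ P.ord (b i) = (Orders.seq (Basic.isDimFun hK hD hV hr P) i : ℤ) - D P := by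
  set hF := Basic.isDimFun hK hD hV hr P
  have hex : ∀ i : Fin (r + 1), ∃ b : K, b ∈ V ∧ b ≠ 0 ∧
      P.ord b = (Orders.seq hF i : ℤ) - D P := by
    intro i
    set a := Orders.seq hF i
    have h1 := Orders.F_seq hF i
    have h2 := Orders.F_seq_succ hF i
    have := i.2
    have := finiteDimensional_L hK (D - Finsupp.single P (((a + 1 : ℕ)) : ℤ))
    obtain ⟨b, hb1, hb2⟩ : ∃ b ∈ V ⊓ _root_.FunFld.L (D - Finsupp.single P (a : ℤ)),
        b ∉ V ⊓ _root_.FunFld.L (D - Finsupp.single P (((a + 1 : ℕ)) : ℤ)) := by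
      by_contra hc
      simp only [not_exists, not_and, not_not] at hc
      have : FiniteDimensional k ↥(V ⊓ _root_.FunFld.L (D - Finsupp.single P (((a + 1 : ℕ)) : ℤ))) :=
        Submodule.finiteDimensional_of_le inf_le_right
      have h3 := Submodule.finrank_mono hc
      change Module.finrank k ↥(V ⊓ _root_.FunFld.L (D - Finsupp.single P (a : ℤ))) = _ at h1
      change Module.finrank k ↥(V ⊓ _root_.FunFld.L (D - Finsupp.single P (((a + 1 : ℕ)) : ℤ))) = _ at h2
      omega
    have hne : b ≠ 0 := fun h => hb2 (h ▸ zero_mem _)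
    refine ⟨b, hb1.1, hne, ?_⟩
    have hup := (mem_L_iff_ord.mp hb1.2).resolve_left hne
    have hlow : ¬ ∀ Q : Pl, -(D - Finsupp.single P (((a + 1 : ℕ)) : ℤ) : Dv) Q ≤ Q.ord b := fun h =>
      hb2 ⟨hb1.1, mem_L_iff_ord.mpr (Or.inr h)⟩
    by_contra hne'
    refine hlow fun Q => ?_
    have hQ := hup Q
    rcases eq_or_ne Q P with rfl | h
    · simp only [Finsupp.sub_apply, Finsupp.single_eq_same, Nat.cast_succ] at hQ ⊢
      omega
    · simpa [Finsupp.single_eq_of_ne h] using hQ
  choose b hbV hb0 hbord using hex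
  have hli : LinearIndependent k b := by
    rw [Fintype.linearIndependent_iff]
    intro c hc i
    by_contra hci
    classical
    let s := Finset.univ.filter fun j => c j ≠ 0
    have hs : s.Nonempty := ⟨i, by simp [s, hci]⟩
    let j := s.min' hs
    have hj : c j ≠ 0 := (Finset.mem_filter.mp (s.min'_mem hs)).2
    have hlt : ∀ l ∈ Finset.univ.erase j, P.1 (c l • b l) < P.1 (c j • b j) := by
      intro l hl
      have hne : l ≠ j := Finset.ne_of_mem_erase hl
      have hpos : 0 < P.1 (c j • b j) := zero_lt_iff.mpr (by simp [hj, hb0])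
      rcases eq_or_ne (c l) 0 with h0 | h0
      · simpa [h0] using hpos
      · have hlt' : j < l := lt_of_le_of_ne (s.min'_le l (by simp [s, h0])) hne.symm
        rw [val_eq_exp P (smul_ne_zero h0 (hb0 l)), val_eq_exp P (smul_ne_zero hj (hb0 j)),
          ord_smul P h0, ord_smul P hj, exp_lt_exp, hbord, hbord]
        have := Orders.strictMono_seq hF hlt'
        omega
    rw [← Finset.add_sum_erase _ _ (Finset.mem_univ j)] at hc
    have hsum : P.1 (∑ l ∈ Finset.univ.erase j, c l • b l) < P.1 (c j • b j) :=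
      Valuation.map_sum_lt' _ (zero_lt_iff.mpr (by simp [hj, hb0])) hlt
    have := P.1.map_add_eq_of_lt_left hsum
    rw [hc, map_zero] at this
    exact smul_ne_zero hj (hb0 j) ((map_eq_zero P.1).mp this.symm)
  refine ⟨b, hli, ?_, fun i => ⟨hb0 i, hbord i⟩⟩
  have : FiniteDimensional k ↥V := FiniteDimensional.of_finrank_pos (by omega)
  refine Submodule.eq_of_le_of_finrank_eq (Submodule.span_le.mpr ?_) ?_
  · rintro _ ⟨i, rfl⟩; exact hbV i
  · rw [finrank_span_eq_card hli, hr, Fintype.card_fin]

theorem exists_coordinate (hK : FunFld.IsFunctionField k K) [IsAlgClosed k]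
    (hg : _root_.FunFld.genus k K = 0) (P₀ : _root_.FunFld.Place k K) :
    ∃ t : K, Transcendental k t ∧
      (∀ p : k[X], p ≠ 0 → P₀.ord (aeval t p) = -(p.natDegree : ℤ)) ∧
      ∀ Q : _root_.FunFld.Place k K, Q ≠ P₀ →
        ∃ c : k, (∀ p : k[X], p ≠ 0 → Q.ord (aeval t p) = (p.rootMultiplicity c : ℤ)) ∧
          ∀ Q' : _root_.FunFld.Place k K, 0 < Q'.ord (t - algebraMap k K c) → Q' = Q := by
  have hr := Riemann.riemann hK (Finsupp.single P₀ (1 : ℤ))
  rw [deg_single, Rational.deg_eq_one hK, hg] at hr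
  obtain ⟨t, ht1, ht2⟩ := Rational.exists_simple_pole_of_ell_single hK (P := P₀) (by omega)
  have htr : Transcendental k t := transcendental_of_ord_ne_zero hK P₀ (by omega)
  have ht0 : t ≠ 0 := Bound.ne_zero_of_transcendental htr
  refine ⟨t, htr, fun p hp => ?_, fun Q hQ => ?_⟩
  · have hval : P₀.1 (aeval t p) = exp (p.natDegree : ℤ) := by
      have hmon : ∀ i, p.coeff i ≠ 0 → P₀.1 (algebraMap k K (p.coeff i) * t ^ i) = exp (i : ℤ) := by
        intro i hi
        rw [map_mul, map_pow, val_algebraMap P₀ hi, one_mul, val_eq_exp P₀ ht0, ht1, ← exp_nsmul]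
        simp
      rw [aeval_eq_sum_range, Finset.sum_range_succ]
      simp only [Algebra.smul_def]
      rw [P₀.1.map_add_eq_of_lt_right, hmon _ (by simpa using hp)]
      rw [hmon _ (by simpa using hp)]
      refine Valuation.map_sum_lt' _ exp_pos fun i hi => ?_
      rw [Finset.mem_range] at hi
      rcases eq_or_ne (p.coeff i) 0 with h0 | h0
      · simp [h0]
      · rw [hmon i h0, exp_lt_exp]; exact_mod_cast hi
    exact ord_eq_of_val_eq_exp P₀ hval
  · have htQ : Q.1 t ≤ 1 := (val_le_one_iff Q).mpr (ht2 Q hQ)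
    have := finiteDimensional_residueField hK Q
    have : Algebra.IsIntegral k (IsLocalRing.ResidueField Q.O) :=
      @Algebra.IsIntegral.of_finite k (IsLocalRing.ResidueField Q.O) _ _ _ this
    obtain ⟨c, hc⟩ := (IsAlgClosed.algebraMap_bijective_of_isIntegral
      (k := k) (K := IsLocalRing.ResidueField Q.O)).2 (IsLocalRing.residue Q.O ⟨t, htQ⟩)
    have hlt : Q.1 (t - algebraMap k K c) < 1 := by
      have h0 : IsLocalRing.residue Q.O (⟨t, htQ⟩ - algebraMap k Q.O c) = 0 := by
        rw [map_sub, ← algebraMap_residue, hc, sub_self]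
      exact (res_eq_zero_iff Q _).mp h0
    have hne : t - algebraMap k K c ≠ 0 := fun h =>
      Bound.not_mem_range_of_transcendental htr ⟨c, (sub_eq_zero.mp h).symm⟩
    have htr' : Transcendental k (t - algebraMap k K c) := fun h => htr (by
      simpa using h.add (isAlgebraic_algebraMap c))
    have hz : zeroDiv (k := k) (t - algebraMap k K c) = Finsupp.single Q 1 := by
      have hpole : poleDiv (k := k) (t - algebraMap k K c) = Finsupp.single P₀ 1 := by
        ext R
        rw [poleDiv_apply hK]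
        rcases eq_or_ne R P₀ with rfl | hR
        · have hval : R.1 (t - algebraMap k K c) = exp 1 := by
            have h1 : R.1 t = exp 1 := by rw [val_eq_exp R ht0, ht1]; rfl
            rw [sub_eq_add_neg, R.1.map_add_eq_of_lt_left, h1]
            rw [Valuation.map_neg, h1]
            exact (R.2.1 c).trans_lt (by rw [← exp_zero, exp_lt_exp]; norm_num)
          rw [ord_eq_of_val_eq_exp R hval, Finsupp.single_eq_same]; rfl
        · rw [Finsupp.single_eq_of_ne hR, max_eq_right]
          have hle : R.1 (t - algebraMap k K c) ≤ 1 :=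
            (R.1.map_sub _ _).trans (max_le ((val_le_one_iff R).mpr (ht2 R hR)) (R.2.1 c))
          have := (val_le_one_iff R).mp hle
          omega
      have hdeg : (zeroDiv (k := k) (t - algebraMap k K c)).deg = 1 := by
        rw [deg_zeroDiv hK htr', ← deg_poleDiv hK htr', hpole, deg_single, Rational.deg_eq_one hK]
        rfl
      obtain ⟨R, -, hR⟩ := Rational.eq_single_of_deg_eq_one hK
        (show 0 ≤ zeroDiv (k := k) (t - algebraMap k K c) from posPart_nonneg _) hdeg
      have hpos : 0 < Q.ord (t - algebraMap k K c) := (ord_pos_iff Q).mpr ⟨hne, hlt⟩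
      have h := DFunLike.congr_fun hR Q
      rw [zeroDiv_apply hK] at h
      rcases eq_or_ne Q R with rfl | hQR
      · exact hR
      · rw [Finsupp.single_eq_of_ne hQR] at h; omega
    refine ⟨c, fun p hp => ?_, fun Q' hQ' => ?_⟩
    · obtain ⟨u, hu, hndvd⟩ := Polynomial.exists_eq_pow_rootMultiplicity_mul_and_not_dvd p hp c
      have hu1 : Q.1 (aeval t u) = 1 := by
        have hu0 : u.eval c ≠ 0 := fun h => hndvd (dvd_iff_isRoot.mpr h)
        obtain ⟨w, hw⟩ := X_sub_C_dvd_sub_C_eval (p := u) (a := c)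
        have e : aeval t u = algebraMap k K (u.eval c) + (t - algebraMap k K c) * aeval t w := by
          have := congrArg (aeval t) hw
          rw [map_sub, aeval_C, map_mul, map_sub, aeval_X, aeval_C] at this
          rw [← this]; ring
        have hwle : Q.1 (aeval t w) ≤ 1 := by
          rw [aeval_eq_sum_range]
          refine Valuation.map_sum_le _ fun i _ => ?_
          rw [Algebra.smul_def, map_mul, map_pow]
          exact mul_le_one' (Q.2.1 _) (pow_le_one' htQ _)
        rw [e, Q.1.map_add_eq_of_lt_left, val_algebraMap Q hu0]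
        rw [val_algebraMap Q hu0, map_mul]
        exact mul_lt_one_of_lt_of_le hlt hwle
      have ho : Q.ord (t - algebraMap k K c) = 1 := by
        have h := DFunLike.congr_fun hz Q
        rw [zeroDiv_apply hK, Finsupp.single_eq_same] at h
        omega
      conv_lhs => rw [hu]
      rw [map_mul, map_pow, map_sub, aeval_X, aeval_C]
      have hu_ne : aeval t u ≠ 0 := fun h => by simp [h] at hu1
      rw [ord_mul Q (pow_ne_zero _ hne) hu_ne, ord_pow, ho]
      have : Q.ord (aeval t u) = 0 := by rw [ord_def, hu1, log_one]; rfl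
      omega
    · have h := DFunLike.congr_fun hz Q'
      rw [zeroDiv_apply hK] at h
      by_contra hne'
      rw [Finsupp.single_eq_of_ne hne'] at h
      omega

theorem plucker (hK : FunFld.IsFunctionField k K) [IsAlgClosed k] [CharZero k]
    (hg : _root_.FunFld.genus k K = 0) {V : Submodule k K} {D : _root_.FunFld.Divisor k K} {d r : ℕ}
    (hD : D.deg = (d : ℤ)) (hV : V ≤ _root_.FunFld.L D) (hr : Module.finrank k ↥V = r + 1)
    (s : Finset (_root_.FunFld.Place k K)) :
    (∑ P ∈ s, ((Basic.S V D P d : ℤ) - (r * (r + 1) / 2 : ℕ))) ≤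
      ((r + 1) * d : ℕ) - 2 * ((r * (r + 1) / 2 : ℕ) : ℤ) := by
  classical
  obtain ⟨P₀⟩ := Riemann.nonempty_place hK
  set R := r * (r + 1) / 2
  have hnn : ∀ P : Pl, (R : ℤ) ≤ Basic.S V D P d := fun P => by
    exact_mod_cast Basic.le_S hK hD hV hr P
  refine le_trans (Finset.sum_le_sum_of_subset_of_nonneg (Finset.subset_insert P₀ s)
    (fun P _ _ => sub_nonneg.mpr (hnn P))) ?_
  rw [show insert P₀ s = insert P₀ (s.erase P₀) by ext Q; by_cases hQ : Q = P₀ <;> simp [hQ]]
  rw [Finset.sum_insert (Finset.notMem_erase P₀ s)]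
  set s' := s.erase P₀
  obtain ⟨t, htr, hinf, hfin⟩ := exists_coordinate hK hg P₀
  have hrr := Riemann.riemann hK (D - Finsupp.single P₀ (d : ℤ))
  rw [deg_sub, deg_single, hD, Rational.deg_eq_one hK, hg] at hrr
  obtain ⟨z, hz0, hzmem⟩ := Riemann.exists_ne_zero_of_ell_pos
    (D := D - Finsupp.single P₀ (d : ℤ)) (by omega)
  have hzdiv : ∀ Q : Pl, Q.ord z = (Finsupp.single P₀ (d : ℤ) : Dv) Q - D Q := by
    have h1 := ((mem_L_iff_div hK).mp hzmem).resolve_left hz0
    intro Q
    by_contra hne
    have h2 := Finsupp.le_def.mp h1 Q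
    simp only [Finsupp.coe_zero, Pi.zero_apply, Finsupp.add_apply, Finsupp.sub_apply,
      div_apply hK] at h2
    have hle : Finsupp.single Q (1 : ℤ) ≤
        _root_.FunFld.div k z + (D - Finsupp.single P₀ (d : ℤ)) := by
      refine Finsupp.le_def.mpr fun T => ?_
      rcases eq_or_ne T Q with rfl | hT
      · simp only [Finsupp.single_eq_same, Finsupp.add_apply, Finsupp.sub_apply, div_apply hK]
        omega
      · rw [Finsupp.single_eq_of_ne hT]; exact Finsupp.le_def.mp h1 T
    have := deg_mono hle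
    rw [deg_single, deg_add, deg_div hK, deg_sub, deg_single, hD, Rational.deg_eq_one hK,
      Rational.deg_eq_one hK] at this
    omega
  let φ : k[X] →ₗ[k] K := LinearMap.mulLeft k z ∘ₗ (aeval t).toLinearMap
  have hφ : ∀ p, φ p = z * aeval t p := fun p => rfl
  have hφinj : Function.Injective φ := by
    rw [injective_iff_map_eq_zero]
    intro p hp
    by_contra hp0
    rw [hφ] at hp
    exact htr ⟨p, hp0, (mul_eq_zero.mp hp).resolve_left hz0⟩
  have hrange : _root_.FunFld.L D ≤ LinearMap.range φ := by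
    have hle : (Polynomial.degreeLT k (d + 1)).map φ ≤ _root_.FunFld.L D := by
      rintro _ ⟨p, hp, rfl⟩
      rcases eq_or_ne p 0 with rfl | hp0
      · simp
      rw [mem_L_iff_ord]
      right
      intro Q
      have hne : aeval t p ≠ 0 := fun h => htr ⟨p, hp0, h⟩
      rw [hφ, ord_mul Q hz0 hne, hzdiv]
      rcases eq_or_ne Q P₀ with rfl | hQ
      · rw [hinf p hp0, Finsupp.single_eq_same]
        have : p.natDegree < d + 1 := (natDegree_lt_iff_degree_lt hp0).mpr (Polynomial.mem_degreeLT.mp hp)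
        omega
      · obtain ⟨c, hc, -⟩ := hfin Q hQ
        rw [hc p hp0, Finsupp.single_eq_of_ne hQ]
        omega
    have hrank : Module.finrank k ↥((Polynomial.degreeLT k (d + 1)).map φ) = d + 1 := by
      rw [← (Submodule.equivMapOfInjective φ hφinj _).finrank_eq,
        (Polynomial.degreeLTEquiv k (d + 1)).finrank_eq, Module.finrank_pi, Fintype.card_fin]
    have hL : _root_.FunFld.ell D = d + 1 := by
      have := Weil.ell_eq_of_deg_ge hK (D := D) (by rw [hg, hD]; omega)
      rw [hg, hD] at this; omega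
    have := finiteDimensional_L hK D
    rw [← Submodule.eq_of_le_of_finrank_eq hle (by rw [hrank]; exact hL.symm)]
    exact LinearMap.map_le_range
  have hbasis : ∀ Q : Pl, ∃ p : Fin (r + 1) → k[X], LinearIndependent k p ∧
      Submodule.span k (Set.range p) = V.comap φ ∧
      ∀ i, p i ≠ 0 ∧ Q.ord (aeval t (p i)) =
        (Orders.seq (Basic.isDimFun hK hD hV hr Q) i : ℤ) - (Finsupp.single P₀ (d : ℤ) : Dv) Q := by
    intro Q
    obtain ⟨b, hli, hspan, hb⟩ := exists_adapted hK hD hV hr Q
    have hbm : ∀ i, b i ∈ LinearMap.range φ := fun i =>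
      hrange (hV (hspan ▸ Submodule.subset_span ⟨i, rfl⟩))
    choose p hp using hbm
    refine ⟨p, ?_, ?_, fun i => ?_⟩
    · exact LinearIndependent.of_comp φ (by rwa [show φ ∘ p = b from funext hp])
    · refine Submodule.map_injective_of_injective hφinj ?_
      rw [Submodule.map_span, ← Set.range_comp, show φ ∘ p = b from funext hp, hspan,
        Submodule.map_comap_eq_of_le (hV.trans hrange)]
    · have hp0 : p i ≠ 0 := fun h => (hb i).1 (by rw [← hp i, h, map_zero])
      refine ⟨hp0, ?_⟩
      have hne : aeval t (p i) ≠ 0 := fun h => htr ⟨p i, hp0, h⟩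
      have := (hb i).2
      rw [← hp i, hφ, ord_mul Q hz0 hne, hzdiv] at this
      omega
  choose p hpli hpspan hp using hbasis
  let c : Pl → k := fun Q => if h : Q = P₀ then 0 else (hfin Q h).choose
  have hc : ∀ Q, Q ≠ P₀ → (∀ q : k[X], q ≠ 0 → Q.ord (aeval t q) = (q.rootMultiplicity (c Q) : ℤ)) ∧
      ∀ Q' : Pl, 0 < Q'.ord (t - algebraMap k K (c Q)) → Q' = Q := fun Q h => by
    simp only [c, dif_neg h]; exact (hfin Q h).choose_spec
  have hcinj : Set.InjOn c s' := by
    intro Q hQ Q' hQ' he
    have hQ0 := Finset.ne_of_mem_erase hQ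
    have hQ0' := Finset.ne_of_mem_erase hQ'
    refine (hc Q' hQ0').2 Q ?_
    rw [← he]
    have := (hc Q hQ0).1 (X - C (c Q)) (X_sub_C_ne_zero _)
    rw [rootMultiplicity_X_sub_C_self, map_sub, aeval_X, aeval_C] at this
    omega
  let hF := fun Q : Pl => Basic.isDimFun hK hD hV hr Q
  let e : Fin (r + 1) → ℕ := fun i => (p P₀ i).natDegree
  have he : ∀ i, (e i : ℤ) = d - (Orders.seq (hF P₀) i : ℤ) := fun i => by
    have h := (hp P₀ i).2
    rw [hinf _ (hp P₀ i).1, Finsupp.single_eq_same] at h
    simp only [e, hF]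
    omega
  have heinj : Function.Injective e := fun i j hij => (Orders.strictMono_seq (hF P₀)).injective (by
    have h1 := he i; have h2 := he j; rw [hij] at h1; omega)
  have hT : ∀ Q, ∃ T : Matrix (Fin (r + 1)) (Fin (r + 1)) k,
      T.det ≠ 0 ∧ p Q = fun i => ∑ l, T i l • p P₀ l := by
    intro Q
    have hmem : ∀ i, p Q i ∈ Submodule.span k (Set.range (p P₀)) := fun i => by
      rw [hpspan P₀, ← hpspan Q]; exact Submodule.subset_span ⟨i, rfl⟩
    choose T hT using fun i => Submodule.mem_span_range_iff_exists_fun k |>.mp (hmem i)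
    refine ⟨Matrix.of T, fun hdet => ?_, funext fun i => (hT i).symm⟩
    obtain ⟨w, hw0, hw⟩ := Matrix.exists_vecMul_eq_zero_iff.mpr hdet
    refine hw0 (funext fun i => Fintype.linearIndependent_iff.mp (hpli Q) w ?_ i)
    simp only [← hT, Finset.smul_sum, smul_smul]
    rw [Finset.sum_comm]
    refine Finset.sum_eq_zero fun l _ => ?_
    rw [← Finset.sum_smul]
    have := congrFun hw l
    simp only [Matrix.vecMul, dotProduct, Matrix.of_apply, Pi.zero_apply] at this
    rw [this, zero_smul]
  choose T hTdet hTp using hT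
  let σ : k → Pl := fun x => if h : ∃ Q ∈ s', c Q = x then h.choose else P₀
  have hσ : ∀ Q ∈ s', σ (c Q) = Q := fun Q hQ => by
    have h : ∃ Q' ∈ s', c Q' = c Q := ⟨Q, hQ, rfl⟩
    simp only [σ, dif_pos h]
    exact hcinj h.choose_spec.1 hQ h.choose_spec.2
  have hW := Wronskian.sum_ramification_le (p P₀) e heinj (fun i => le_rfl)
    (fun i => by simpa [e] using (hp P₀ i).1) (s'.image c)
    (fun x i => Orders.seq (hF (σ x)) i) (fun x => p (σ x)) (fun x => T (σ x))
    (fun x _ => hTdet _) (fun x _ => hTp _) (fun x hx i => by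
      obtain ⟨Q, hQ, rfl⟩ := Finset.mem_image.mp hx
      rw [hσ Q hQ]
      have hQ0 : Q ≠ P₀ := Finset.ne_of_mem_erase hQ
      have h := (hp Q i).2
      rw [(hc Q hQ0).1 _ (hp Q i).1, Finsupp.single_eq_of_ne hQ0, sub_zero] at h
      exact (pow_dvd_pow _ (le_of_eq (Int.ofNat.inj h).symm)).trans (pow_rootMultiplicity_dvd _ _))
  have hS : ∀ Q, (Basic.S V D Q d : ℤ) = ((∑ i, Orders.seq (hF Q) i : ℕ) : ℤ) := fun Q => by
    rw [← Orders.sum_F_eq_sum_seq (hF Q)]; simp [Basic.S]
  have htri : Wronskian.tri (r + 1) = R := by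
    rw [Wronskian.tri, Fin.sum_univ_eq_sum_range (fun i => i), Finset.sum_range_id, mul_comm]
    rfl
  rw [Finset.sum_image hcinj, htri] at hW
  rw [Finset.sum_congr rfl fun Q hQ => by rw [hσ Q hQ]] at hW
  simp only [← hS] at hW
  have hse : ((∑ i, e i : ℕ) : ℤ) = ((r + 1) * d : ℕ) - Basic.S V D P₀ d := by
    rw [hS P₀]; push_cast; rw [Finset.sum_congr rfl fun i _ => he i, Finset.sum_sub_distrib]
    simp
  rw [hse] at hW
  omega

end Groth.Agent.Lib.FunFld.LinSer.Plucker
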